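import Mathlib
import Groth.Agent.Lib.FlatFP.TorShift
import Groth.Agent.Lib.FlatCx.Misc

/-!
# Vanishing of `Tor (A/(x), N)` for a regular sequence `x`
-/

set_option autoImplicit false
universe u

open CategoryTheory TensorProduct RingTheory.Sequence

namespace GrothLib.TorReg

open GrothLib.FlatFP

variable {A : Type u} [CommRing A]

/-- `H_i` of the complex computing `Tor (A/(rs), N)`. -/
noncomputable abbrev H (rs : List A) (N : ModuleCat.{u} A) (i : ℕ) : ModuleCat.{u} A :=
  (torCx (ModuleCat.of A (A ⧸ Ideal.ofList rs)) N).homology i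

/-- degree zero -/
noncomputable def H0equiv (rs : List A) (N : ModuleCat.{u} A) :
    H rs N 0 ≃ₗ[A] (N ⧸ (Ideal.ofList rs • ⊤ : Submodule A N)) :=
  (((projectiveResolution N).isoLeftDerivedObj (tensorL (ModuleCat.of A (A ⧸ Ideal.ofList rs))) 0).symm ≪≫
    (Functor.leftDerivedZeroIsoSelf (tensorL (ModuleCat.of A (A ⧸ Ideal.ofList rs)))).app N).toLinearEquiv ≪≫ₗ
  TensorProduct.quotTensorEquivQuotSMul N (Ideal.ofList rs)

theorem subsingleton_nil (N : ModuleCat.{u} A) (i : ℕ) : Subsingleton (H ([] : List A) N (i + 1)) := by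
  have e : (A ⧸ Ideal.ofList ([] : List A)) ≃ₗ[A] A :=
    Submodule.quotEquivOfEqBot _ (by rw [Ideal.ofList, eq_bot_iff, Ideal.span_le]; rintro x hx; simp at hx)
  have : Module.Flat A (A ⧸ Ideal.ofList ([] : List A)) := Module.Flat.of_linearEquiv e
  exact ModuleCat.isZero_iff_subsingleton.1
    (isZero_torCx_homology_of_flat (ModuleCat.of A (A ⧸ Ideal.ofList ([] : List A))) N i)

variable (rs : List A) (r : A)

/-- multiplication by `r` on `A/(rs)` with cokernel `A/(rs, r)` -/
noncomputable def step : ShortComplex (ModuleCat.{u} A) :=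
  ShortComplex.mk (X₁ := ModuleCat.of A (A ⧸ Ideal.ofList rs)) (X₂ := ModuleCat.of A (A ⧸ Ideal.ofList rs))
    (X₃ := ModuleCat.of A (A ⧸ Ideal.ofList (rs ++ [r])))
    (r • 𝟙 _) (ModuleCat.ofHom (Submodule.factor (by rw [Ideal.ofList_append]; exact le_sup_left)))
    (ModuleCat.hom_ext (LinearMap.ext fun z => by
      obtain ⟨z, rfl⟩ := Submodule.Quotient.mk_surjective _ z
      refine (Submodule.Quotient.mk_eq_zero _).2 ?_
      rw [Ideal.ofList_append, Ideal.ofList_singleton]
      exact Ideal.mem_sup_right (Ideal.mul_mem_right z _ (Ideal.mem_span_singleton_self r))))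

theorem step_shortExact (hr : IsSMulRegular (A ⧸ Ideal.ofList rs) r) : (step rs r).ShortExact :=
  { exact := (ShortComplex.moduleCat_exact_iff _).2 fun z hz => by
      obtain ⟨z, rfl⟩ := Submodule.Quotient.mk_surjective _ z
      have h := (Submodule.Quotient.mk_eq_zero _).1 hz
      rw [Ideal.ofList_append, Ideal.ofList_singleton] at h
      obtain ⟨a, ha, b, hb, rfl⟩ := Submodule.mem_sup.1 h
      obtain ⟨c, rfl⟩ := Ideal.mem_span_singleton'.1 hb
      refine ⟨Submodule.Quotient.mk c, ?_⟩
      refine (Submodule.Quotient.eq _).2 ?_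
      show r * c - (a + c * r) ∈ _
      rw [mul_comm r c, sub_add_cancel_right]
      exact neg_mem ha
    mono_f := (ModuleCat.mono_iff_injective _).2 hr
    epi_g := (ModuleCat.epi_iff_surjective _).2 (Submodule.factor_surjective
      (show Ideal.ofList rs ≤ Ideal.ofList (rs ++ [r]) by rw [Ideal.ofList_append]; exact le_sup_left)) }

theorem map_f_eq_smul (N : ModuleCat.{u} A) (i : ℕ) (y : H rs N i) :
    (HomologicalComplex.homologyMap (torSeq (step rs r) N).f i).hom y = r • y := by
  refine GrothLib.FlatCx.homologyMap_eq_smul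
    ((HomologicalComplex.shortComplexFunctor _ (ComplexShape.down ℕ) i).map (torSeq (step rs r) N).f) r ?_ y
  let M : ModuleCat.{u} A := ModuleCat.of A (A ⧸ Ideal.ofList rs)
  let P : ModuleCat.{u} A := (projectiveResolution N).complex.X i
  have key : ∀ z : M ⊗[A] P, LinearMap.rTensor P (r • 𝟙 M : M ⟶ M).hom z = r • z := fun z => by
    rw [show (r • 𝟙 M : M ⟶ M).hom = r • LinearMap.id from rfl, LinearMap.rTensor_smul,
      LinearMap.rTensor_id]
    rfl
  exact fun z => key z

variable [IsNoetherianRing A]

theorem finite_H : ∀ (rs : List A), IsWeaklyRegular A rs → ∀ (N : ModuleCat.{u} A) [Module.Finite A N] (i : ℕ),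
    Module.Finite A (H rs N i) := by
  intro rs
  induction rs using List.reverseRecOn with
  | nil =>
    intro _ N _ i
    rcases i with _ | i
    · exact Module.Finite.equiv (H0equiv _ N).symm
    · have := subsingleton_nil N i
      infer_instance
  | append_singleton rs r ih =>
    intro hreg N _ i
    rw [isWeaklyRegular_append_iff, isWeaklyRegular_singleton_iff] at hreg
    rcases i with _ | i
    · exact Module.Finite.equiv (H0equiv _ N).symm
    have hr : IsSMulRegular (A ⧸ Ideal.ofList rs) r :=
      ((Submodule.quotEquivOfEq _ _ (by rw [smul_eq_mul, Ideal.mul_top])).isSMulRegular_congr r).1 hreg.2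
    have hS := torSeq_shortExact (step rs r) (step_shortExact rs r hr) N
    have h1 := ih hreg.1 N (i + 1)
    have h2 := ih hreg.1 N i
    let g : H rs N (i + 1) →ₗ[A] H (rs ++ [r]) N (i + 1) :=
      (HomologicalComplex.homologyMap (torSeq (step rs r) N).g (i + 1)).hom
    let δ : H (rs ++ [r]) N (i + 1) →ₗ[A] H rs N i := (hS.δ (i + 1) i (by simp)).hom
    have hex : Function.Exact g δ :=
      (ShortComplex.ShortExact.moduleCat_exact_iff_function_exact _).1 (hS.homology_exact₃ (i + 1) i (by simp))
    have : IsNoetherian A ((torSeq (step rs r) N).X₁.homology i) :=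
      inferInstanceAs (IsNoetherian A (H rs N i))
    refine ⟨Submodule.fg_of_fg_map_of_fg_inf_ker δ (IsNoetherian.noetherian _) ?_⟩
    rw [top_inf_eq, LinearMap.exact_iff.1 hex]
    exact Submodule.fg_range g

theorem isWeaklyRegular_iff : ∀ (rs : List A), IsWeaklyRegular A rs → (∀ r ∈ rs, r ∈ Ring.jacobson A) →
    ∀ (N : ModuleCat.{u} A) [Module.Finite A N],
      (IsWeaklyRegular N rs ↔ ∀ i, Subsingleton (H rs N (i + 1))) := by
  intro rs
  induction rs using List.reverseRecOn with
  | nil => exact fun _ _ N _ => iff_of_true (IsWeaklyRegular.nil A N) (subsingleton_nil N)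
  | append_singleton rs r ih =>
    intro hreg hjac N _
    rw [isWeaklyRegular_append_iff, isWeaklyRegular_singleton_iff] at hreg
    have ih' := ih hreg.1 (fun s hs => hjac s (List.mem_append_left _ hs)) N
    have hfin : ∀ i, Module.Finite A (H rs N i) := fun i => finite_H rs hreg.1 N i
    have hr : IsSMulRegular (A ⧸ Ideal.ofList rs) r :=
      ((Submodule.quotEquivOfEq _ _ (by rw [smul_eq_mul, Ideal.mul_top])).isSMulRegular_congr r).1 hreg.2
    have hS := torSeq_shortExact (step rs r) (step_shortExact rs r hr) N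
    let g : ∀ i, H rs N i →ₗ[A] H (rs ++ [r]) N i := fun i =>
      (HomologicalComplex.homologyMap (torSeq (step rs r) N).g i).hom
    let δ : ∀ i, H (rs ++ [r]) N (i + 1) →ₗ[A] H rs N i := fun i => (hS.δ (i + 1) i (by simp)).hom
    have h₂ : ∀ i, Function.Exact (fun y : H rs N i => r • y) (g i) := fun i => by
      have := (ShortComplex.ShortExact.moduleCat_exact_iff_function_exact _).1 (hS.homology_exact₂ i)
      rwa [show (fun y : H rs N i => r • y) = _ from funext fun y => (map_f_eq_smul rs r N i y).symm]
    have h₃ : ∀ i, Function.Exact (g (i + 1)) (δ i) := fun i =>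
      (ShortComplex.ShortExact.moduleCat_exact_iff_function_exact _).1 (hS.homology_exact₃ (i + 1) i (by simp))
    have h₁ : ∀ i, Function.Exact (δ i) (fun y : H rs N i => r • y) := fun i => by
      have := (ShortComplex.ShortExact.moduleCat_exact_iff_function_exact _).1 (hS.homology_exact₁ (i + 1) i (by simp))
      rwa [show (fun y : H rs N i => r • y) = _ from funext fun y => (map_f_eq_smul rs r N i y).symm]
    rw [isWeaklyRegular_append_iff, isWeaklyRegular_singleton_iff, ih',
      ← (H0equiv rs N).isSMulRegular_congr r]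
    constructor
    · rintro ⟨hz, hinj⟩ i
      refine subsingleton_of_forall_eq 0 fun x => ?_
      have hδ : δ i x = 0 := by
        have h := (h₁ i).apply_apply_eq_zero x
        rcases i with _ | i
        · exact hinj (h.trans (smul_zero r).symm)
        · exact @Subsingleton.elim _ (hz i) _ _
      obtain ⟨y, rfl⟩ := (h₃ i x).1 hδ
      rw [@Subsingleton.elim _ (hz i) y 0, map_zero]
    · intro hz
      refine ⟨fun i => ?_, ?_⟩
      · have := hfin (i + 1)
        have hsurj : (⊤ : Submodule A (H rs N (i + 1))) ≤ Ideal.span {r} • ⊤ := by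
          intro y _
          obtain ⟨z, rfl⟩ := (h₂ (i + 1) y).1 (@Subsingleton.elim _ (hz i) _ _)
          exact Submodule.smul_mem_smul (Ideal.mem_span_singleton_self r) trivial
        have hbot : (⊤ : Submodule A (H rs N (i + 1))) = ⊥ :=
          Submodule.eq_bot_of_le_smul_of_le_jacobson_bot _ _ Module.Finite.fg_top hsurj
            ((Ideal.span_singleton_le_iff_mem _).2 (by
              rw [Ideal.jacobson_bot]
              exact hjac r (List.mem_append_right _ (List.mem_singleton_self r))))
        exact (Submodule.subsingleton_iff A).1 (subsingleton_iff_bot_eq_top.1 hbot.symm)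
      · intro a b hab
        have h0 : r • (a - b) = 0 := by
          rw [smul_sub, sub_eq_zero]; exact hab
        obtain ⟨x, hx⟩ := (h₁ 0 (a - b)).1 h0
        rw [@Subsingleton.elim _ (hz 0) x 0, map_zero] at hx
        exact sub_eq_zero.1 hx.symm

end GrothLib.TorReg
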